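import Mathlib

/-!
# General Leibniz rule for powers of a derivation, and the exponential ring homomorphism
-/

set_option autoImplicit false
universe u

namespace Groth.Agent.H78.Seidenberg

open TensorProduct

variable {k K : Type*} [CommRing k] [CommRing K] [Algebra k K]

/-- General Leibniz rule for the powers of a derivation (as a linear endomorphism). -/
theorem pow_apply_mul (D : Derivation k K K) (n : ℕ) (a b : K) :
    ((D : K →ₗ[k] K) ^ n) (a * b) =
      ∑ m ∈ Finset.range (n + 1),
        (n.choose m) • (((D : K →ₗ[k] K) ^ m) a * ((D : K →ₗ[k] K) ^ (n - m)) b) := by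
  set d : K →ₗ[k] K := (D : K →ₗ[k] K) with hd
  let μ : K ⊗[k] K →ₗ[k] K := LinearMap.mul' k K
  let T : K ⊗[k] K →ₗ[k] K ⊗[k] K := d.rTensor K + d.lTensor K
  have h1 : μ ∘ₗ T = d ∘ₗ μ := by
    apply TensorProduct.ext'
    intro x y
    simp only [μ, T, LinearMap.comp_apply, LinearMap.add_apply, LinearMap.rTensor_tmul,
      LinearMap.lTensor_tmul, LinearMap.mul'_apply, map_add, hd, Derivation.coeFn_coe,
      Derivation.leibniz, smul_eq_mul]
    ring
  have h2 : ∀ n : ℕ, μ ∘ₗ (T ^ n) = (d ^ n) ∘ₗ μ := by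
    intro n
    induction n with
    | zero => simp only [pow_zero, Module.End.one_eq_id, LinearMap.comp_id, LinearMap.id_comp]
    | succ n ih =>
      rw [pow_succ, Module.End.mul_eq_comp, ← LinearMap.comp_assoc, ih, LinearMap.comp_assoc, h1,
        ← LinearMap.comp_assoc, pow_succ, Module.End.mul_eq_comp]
  have hcomm : Commute (d.rTensor K) (d.lTensor K) := by
    change d.rTensor K * d.lTensor K = d.lTensor K * d.rTensor K
    rw [Module.End.mul_eq_comp, Module.End.mul_eq_comp, LinearMap.rTensor_comp_lTensor,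
      LinearMap.lTensor_comp_rTensor]
  have h3 := congrArg (fun f : K ⊗[k] K →ₗ[k] K => f (a ⊗ₜ[k] b)) (h2 n)
  simp only [LinearMap.comp_apply, μ, LinearMap.mul'_apply] at h3
  rw [← h3]
  change (LinearMap.mul' k K) ((T ^ n) (a ⊗ₜ[k] b)) = _
  rw [show T ^ n = (d.rTensor K + d.lTensor K) ^ n from rfl, hcomm.add_pow]
  simp only [LinearMap.sum_apply, map_sum]
  refine Finset.sum_congr rfl fun m _ => ?_
  rw [LinearMap.rTensor_pow, LinearMap.lTensor_pow]
  rw [Module.End.mul_apply, Module.End.mul_apply]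
  have h4 : ((n.choose m : Module.End k (K ⊗[k] K))) (a ⊗ₜ[k] b) = (n.choose m) • (a ⊗ₜ[k] b) := by
    rw [← nsmul_one (n.choose m), LinearMap.smul_apply, Module.End.one_apply]
  rw [h4, map_nsmul, map_nsmul, map_nsmul, LinearMap.lTensor_tmul, LinearMap.rTensor_tmul,
    LinearMap.mul'_apply]

end Groth.Agent.H78.Seidenberg
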