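import Mathlib
import Groth.Agent.H78.Seidenberg.Leibniz

/-!
# The exponential `exp(tD) : K → K⟦t⟧` of a derivation in characteristic zero
-/

set_option autoImplicit false
universe u

namespace Groth.Agent.H78.Seidenberg

open PowerSeries

variable {k K : Type*} [Field k] [CharZero k] [CommRing K] [Algebra k K]

/-- the coefficient `Dⁿ(a)/n!` -/
noncomputable def dcoeff (D : Derivation k K K) (n : ℕ) (a : K) : K :=
  ((n.factorial : k)⁻¹) • ((D : K →ₗ[k] K) ^ n) a

theorem dcoeff_zero (D : Derivation k K K) (a : K) : dcoeff D 0 a = a := by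
  simp [dcoeff]

theorem dcoeff_one (D : Derivation k K K) (a : K) : dcoeff D 1 a = D a := by
  simp [dcoeff]

theorem dcoeff_mul (D : Derivation k K K) (n : ℕ) (a b : K) :
    dcoeff D n (a * b) =
      ∑ p ∈ Finset.HasAntidiagonal.antidiagonal n, dcoeff D p.1 a * dcoeff D p.2 b := by
  rw [Finset.Nat.sum_antidiagonal_eq_sum_range_succ (fun i j => dcoeff D i a * dcoeff D j b) n]
  unfold dcoeff
  rw [pow_apply_mul, Finset.smul_sum]
  refine Finset.sum_congr rfl fun m hm => ?_
  have hmn : m ≤ n := Nat.lt_succ_iff.mp (Finset.mem_range.mp hm)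
  rw [smul_mul_smul_comm, ← Nat.cast_smul_eq_nsmul k, smul_smul]
  congr 1
  have h1 : ((n.choose m * m.factorial * (n - m).factorial : ℕ) : k) = (n.factorial : k) := by
    rw [Nat.choose_mul_factorial_mul_factorial hmn]
  have hn : (n.factorial : k) ≠ 0 := Nat.cast_ne_zero.mpr (Nat.factorial_ne_zero n)
  have hm' : (m.factorial : k) ≠ 0 := Nat.cast_ne_zero.mpr (Nat.factorial_ne_zero m)
  have hnm : ((n - m).factorial : k) ≠ 0 := Nat.cast_ne_zero.mpr (Nat.factorial_ne_zero _)
  push_cast at h1
  field_simp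
  rw [← h1]

/-- `exp(tD)` as a ring homomorphism. -/
noncomputable def expHom (D : Derivation k K K) : K →+* K⟦X⟧ where
  toFun a := PowerSeries.mk fun n => dcoeff D n a
  map_one' := by
    ext n
    rw [coeff_mk, coeff_one]
    rcases n with _ | n
    · simp [dcoeff]
    · have : ((D : K →ₗ[k] K) ^ (n + 1)) 1 = 0 := by
        rw [pow_succ, Module.End.mul_apply]
        simp
      simp [dcoeff, this]
  map_mul' a b := by
    ext n
    rw [coeff_mk, coeff_mul, dcoeff_mul]
    refine Finset.sum_congr rfl fun p _ => ?_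
    rw [coeff_mk, coeff_mk]
  map_zero' := by
    ext n
    simp [dcoeff]
  map_add' a b := by
    ext n
    simp [dcoeff, smul_add]

theorem coeff_expHom (D : Derivation k K K) (n : ℕ) (a : K) :
    coeff n (expHom D a) = dcoeff D n a := by
  simp [expHom]

end Groth.Agent.H78.Seidenberg
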