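import Mathlib
import Groth.Agent.H78.Seidenberg.Exp

/-!
# The key estimate of Seidenberg's theorem

If `c xⁱ ∈ A` for all `i` and `D` preserves `A`, then `c (D x)ⁿ ∈ A[x]` for all `n`.
-/

set_option autoImplicit false
universe u

namespace Groth.Agent.H78.Seidenberg

open PowerSeries

variable {k A K : Type*} [Field k] [CharZero k] [CommRing A] [CommRing K] [Algebra k A]
  [Algebra k K] [Algebra A K] [IsScalarTower k A K]

/-- powers of compatible derivations are compatible -/
theorem pow_apply_algebraMap (DA : Derivation k A A) (D : Derivation k K K)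
    (hD : ∀ a, D (algebraMap A K a) = algebraMap A K (DA a)) (n : ℕ) (a : A) :
    ((D : K →ₗ[k] K) ^ n) (algebraMap A K a) = algebraMap A K (((DA : A →ₗ[k] A) ^ n) a) := by
  induction n generalizing a with
  | zero => simp
  | succ n ih =>
    rw [pow_succ, Module.End.mul_apply, pow_succ, Module.End.mul_apply]
    change ((D : K →ₗ[k] K) ^ n) (D (algebraMap A K a)) = _
    rw [hD, ih]
    rfl

theorem dcoeff_algebraMap (DA : Derivation k A A) (D : Derivation k K K)
    (hD : ∀ a, D (algebraMap A K a) = algebraMap A K (DA a)) (n : ℕ) (a : A) :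
    dcoeff D n (algebraMap A K a) = algebraMap A K (dcoeff DA n a) := by
  unfold dcoeff
  rw [pow_apply_algebraMap DA D hD, ← IsScalarTower.toAlgHom_apply k A K,
    ← IsScalarTower.toAlgHom_apply k A K, map_smul]

/-- the key estimate -/
theorem algebraMap_mul_pow_mem_adjoin (DA : Derivation k A A) (D : Derivation k K K)
    (hD : ∀ a, D (algebraMap A K a) = algebraMap A K (DA a)) (x : K) (c : A)
    (hc : ∀ i : ℕ, ∃ a : A, algebraMap A K a = algebraMap A K c * x ^ i) (n : ℕ) :
    algebraMap A K c * (D x) ^ n ∈ Algebra.adjoin A {x} := by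
  set E := expHom D with hE
  set W : K⟦X⟧ := PowerSeries.mk fun p => coeff (p + 1) (E x) with hW
  have hx0 : constantCoeff (E x) = x := by
    rw [← coeff_zero_eq_constantCoeff_apply, coeff_expHom, dcoeff_zero]
  have hsplit : E x - C x = X * W := by
    have := eq_X_mul_shift_add_const (E x)
    rw [hx0] at this
    rw [sub_eq_iff_eq_add]
    exact this
  have hW0 : constantCoeff W = D x := by
    rw [← coeff_zero_eq_constantCoeff_apply, hW, coeff_mk, zero_add, coeff_expHom, dcoeff_one]
  have hc0 : constantCoeff (E (algebraMap A K c)) = algebraMap A K c := by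
    rw [← coeff_zero_eq_constantCoeff_apply, coeff_expHom, dcoeff_zero]
  -- left hand side
  have hL : coeff n (E (algebraMap A K c) * (E x - C x) ^ n) = algebraMap A K c * (D x) ^ n := by
    rw [hsplit, mul_pow, mul_left_comm]
    have := coeff_X_pow_mul (E (algebraMap A K c) * W ^ n) n 0
    rw [zero_add] at this
    rw [this, coeff_zero_eq_constantCoeff_apply, map_mul, map_pow, hW0, hc0]
  -- right hand side
  have hR : E (algebraMap A K c) * (E x - C x) ^ n =
      ∑ m ∈ Finset.range (n + 1),
        E (algebraMap A K c * x ^ m) * C ((-x) ^ (n - m) * (n.choose m : K)) := by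
    rw [sub_eq_add_neg, add_pow, Finset.mul_sum]
    refine Finset.sum_congr rfl fun m _ => ?_
    rw [map_mul, map_pow, map_mul, map_pow, map_neg, map_natCast]
    ring
  rw [← hL, hR, map_sum]
  refine Subalgebra.sum_mem _ fun m _ => ?_
  rw [coeff_mul_C]
  obtain ⟨a, ha⟩ := hc m
  rw [← ha, coeff_expHom, dcoeff_algebraMap DA D hD]
  refine Subalgebra.mul_mem _ (Subalgebra.algebraMap_mem _ _) ?_
  refine Subalgebra.mul_mem _ (Subalgebra.pow_mem _ ?_ _) (natCast_mem _ _)
  exact Subalgebra.neg_mem _ (Algebra.subset_adjoin rfl)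

end Groth.Agent.H78.Seidenberg
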