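import Mathlib
import Groth.Agent.H78.Seidenberg.Key

/-!
# Seidenberg: a derivation of a Noetherian ring containing `ℚ` preserves integrality
-/

set_option autoImplicit false
universe u

namespace Groth.Agent.H78.Seidenberg

variable {k A K : Type*} [Field k] [CharZero k] [CommRing A] [CommRing K] [Algebra k A]
  [Algebra k K] [Algebra A K] [IsScalarTower k A K]

/-- common denominators for the powers of an integral element -/
theorem exists_denominator {A K : Type*} [CommRing A] [CommRing K] [Algebra A K]
    (M : Submonoid A) [IsLocalization M K] (x : K) (hx : IsIntegral A x) :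
    ∃ c : M, ∀ i : ℕ, ∃ a : A, algebraMap A K a = algebraMap A K c * x ^ i := by
  classical
  have hfg : (Subalgebra.toSubmodule (Algebra.adjoin A {x})).FG := hx.fg_adjoin_singleton
  obtain ⟨s, hs⟩ := hfg
  obtain ⟨c, hc⟩ := IsLocalization.exist_integer_multiples_of_finset M s
  refine ⟨c, fun i => ?_⟩
  have hxi : x ^ i ∈ Algebra.adjoin A {x} :=
    Subalgebra.pow_mem _ (Algebra.subset_adjoin (Set.mem_singleton x)) i
  rw [← Subalgebra.mem_toSubmodule, ← hs] at hxi
  have key : ∀ y ∈ Submodule.span A (s : Set K),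
      ∃ a : A, algebraMap A K a = algebraMap A K c * y := by
    intro y hy
    refine Submodule.span_induction (p := fun y _ => ∃ a : A, algebraMap A K a = algebraMap A K c * y)
      ?_ ?_ ?_ ?_ hy
    · intro y hy
      obtain ⟨a, ha⟩ := hc y hy
      refine ⟨a, ?_⟩
      rw [ha, Algebra.smul_def]
    · exact ⟨0, by rw [map_zero, mul_zero]⟩
    · rintro y z _ _ ⟨a, ha⟩ ⟨b, hb⟩
      exact ⟨a + b, by rw [map_add, ha, hb, mul_add]⟩
    · rintro r y _ ⟨a, ha⟩
      refine ⟨r * a, ?_⟩
      rw [map_mul, ha, Algebra.smul_def]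
      ring
  exact key _ hxi

/-- **Seidenberg's theorem** (integrality form). -/
theorem isIntegral_derivation [IsNoetherianRing A] (M : Submonoid A) [IsLocalization M K]
    (DA : Derivation k A A) (D : Derivation k K K)
    (hD : ∀ a, D (algebraMap A K a) = algebraMap A K (DA a)) (x : K) (hx : IsIntegral A x) :
    IsIntegral A (D x) := by
  obtain ⟨c, hc⟩ := exists_denominator M x hx
  have hkey := algebraMap_mul_pow_mem_adjoin DA D hD x (c : A) hc
  have hu : IsUnit (algebraMap A K c) := IsLocalization.map_units K c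
  obtain ⟨u, hu'⟩ := hu
  -- the finitely generated module `u⁻¹ • A[x]`
  let φ : K →ₗ[A] K := LinearMap.mulLeft A (↑u⁻¹ : K)
  let N : Submodule A K := (Subalgebra.toSubmodule (Algebra.adjoin A {x})).map φ
  have hNfg : N.FG := (hx.fg_adjoin_singleton).map φ
  have hpow : ∀ n : ℕ, (D x) ^ n ∈ N := by
    intro n
    refine ⟨algebraMap A K c * (D x) ^ n, hkey n, ?_⟩
    change (↑u⁻¹ : K) * (algebraMap A K c * (D x) ^ n) = _
    rw [← hu', ← mul_assoc, Units.inv_mul, one_mul]
  have hle : Subalgebra.toSubmodule (Algebra.adjoin A {D x}) ≤ N := by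
    rw [Algebra.adjoin_eq_span, Submodule.span_le]
    intro y hy
    obtain ⟨n, rfl⟩ := Submonoid.mem_closure_singleton.mp hy
    exact hpow n
  haveI : IsNoetherian A N := isNoetherian_of_fg_of_noetherian N hNfg
  have hfg : (Subalgebra.toSubmodule (Algebra.adjoin A {D x})).FG := by
    have h1 : (Submodule.comap N.subtype (Subalgebra.toSubmodule (Algebra.adjoin A {D x}))).FG :=
      IsNoetherian.noetherian _
    have h2 := h1.map N.subtype
    rwa [Submodule.map_comap_subtype, inf_eq_right.mpr hle] at h2
  exact IsIntegral.of_mem_of_fg _ hfg _ (Algebra.subset_adjoin rfl)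

end Groth.Agent.H78.Seidenberg
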