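import Mathlib
import Groth.Agent.H78.Seidenberg.Integral

/-!
# Seidenberg's theorem: derivations extend to the normalization in characteristic zero
-/

set_option autoImplicit false
universe u

namespace Groth.Agent.H78.Seidenberg

open KaehlerDifferential

section Extend

/-- a derivation extends to a localization -/
theorem exists_derivation_localization {k A : Type*} [CommRing k] [CommRing A] [Algebra k A]
    (M : Submonoid A) (K : Type*) [CommRing K] [Algebra k K] [Algebra A K] [IsScalarTower k A K]
    [IsLocalization M K] (D : Derivation k A A) :
    ∃ D' : Derivation k K K, ∀ a, D' (algebraMap A K a) = algebraMap A K (D a) := by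
  let f : Ω[A⁄k] →ₗ[A] K := (Algebra.linearMap A K) ∘ₗ D.liftKaehlerDifferential
  haveI : IsLocalizedModule M (KaehlerDifferential.map k k A K) :=
    KaehlerDifferential.isLocalizedModule_map k A K M
  have hunit : ∀ s : M, IsUnit ((algebraMap A (Module.End A K)) s) := by
    intro s
    rw [Module.End.isUnit_iff]
    have hu : IsUnit (algebraMap A K s) := IsLocalization.map_units K s
    obtain ⟨u, hu'⟩ := hu
    constructor
    · intro x y hxy
      simp only [Module.algebraMap_end_apply, Algebra.smul_def] at hxy
      rw [← hu'] at hxy
      exact u.isUnit.mul_right_injective hxy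
    · intro y
      refine ⟨(↑u⁻¹ : K) * y, ?_⟩
      simp only [Module.algebraMap_end_apply, Algebra.smul_def]
      rw [← hu', ← mul_assoc, Units.mul_inv, one_mul]
  let g₀ : Ω[K⁄k] →ₗ[A] K := IsLocalizedModule.lift M (KaehlerDifferential.map k k A K) f hunit
  let g : Ω[K⁄k] →ₗ[K] K := g₀.extendScalarsOfIsLocalization M K
  refine ⟨g.compDer (KaehlerDifferential.D k K), fun a => ?_⟩
  rw [Derivation.coe_comp]
  change g₀ (KaehlerDifferential.D k K (algebraMap A K a)) = _
  rw [← KaehlerDifferential.map_D k k A K a]
  change IsLocalizedModule.lift M (KaehlerDifferential.map k k A K) f hunit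
    (KaehlerDifferential.map k k A K (KaehlerDifferential.D k A a)) = _
  rw [IsLocalizedModule.lift_apply]
  change algebraMap A K (D.liftKaehlerDifferential (KaehlerDifferential.D k A a)) = _
  rw [Derivation.liftKaehlerDifferential_comp_D]

end Extend

/-- **Seidenberg.** Every derivation of a Noetherian algebra over a field of characteristic zero
extends to the integral closure in the total ring of fractions. -/
theorem main (k : Type u) [Field k] [CharZero k] (A : Type u) [CommRing A] [Algebra k A]
    [IsNoetherianRing A] (D : Derivation k A A) :
    ∃ D' : Derivation k ↥(integralClosure A (FractionRing A))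
        ↥(integralClosure A (FractionRing A)),
      ∀ a : A, (D' (algebraMap A ↥(integralClosure A (FractionRing A)) a) : FractionRing A) =
        algebraMap A (FractionRing A) (D a) := by
  obtain ⟨DK, hDK⟩ := exists_derivation_localization (nonZeroDivisors A) (FractionRing A) D
  have hmem : ∀ x : ↥(integralClosure A (FractionRing A)),
      DK (x : FractionRing A) ∈ integralClosure A (FractionRing A) := fun x =>
    isIntegral_derivation (nonZeroDivisors A) D DK hDK x x.2
  refine ⟨{ toLinearMap :=
              { toFun := fun x => ⟨DK (x : FractionRing A), hmem x⟩
                map_add' := fun x y => Subtype.ext (by simp)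
                map_smul' := fun r x => Subtype.ext (by simp) }
            map_one_eq_zero' := Subtype.ext (by simp)
            leibniz' := fun x y => Subtype.ext (by simp [Derivation.leibniz]) }, ?_⟩
  intro a
  exact hDK a

end Groth.Agent.H78.Seidenberg
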